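import Cfsg.Agent.KT.Der

set_option autoImplicit false

/-! A tabulated potential for at most eleven remaining points. -/

namespace CL.KT

/-- partitions of `n` into parts `≤ k` not divisible by `p` -/
def pl (p : ℕ) : ℕ → ℕ → ℕ → List (List ℕ)
  | 0, _, _ => []
  | f + 1, n, k => if n = 0 then [[]] else if k = 0 then [] else
      pl p f n (k - 1) ++ (if k ≤ n ∧ k % p ≠ 0 then (pl p f (n - k) k).map (k :: ·) else [])

/-- admissible orbit sizes -/
def ok (p c : ℕ) : Prop := 0 < c ∧ c % p ≠ 0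

instance (p c : ℕ) : Decidable (ok p c) := inferInstanceAs (Decidable (0 < c ∧ c % p ≠ 0))

theorem pl_complete (p f : ℕ) : ∀ (n k : ℕ) (M : Multiset ℕ), n + k < f → M.sum = n →
    (∀ a ∈ M, ok p a ∧ a ≤ k) → ∃ l ∈ pl p f n k, (l : Multiset ℕ) = M := by
  induction f with
  | zero => intro n k M h; omega
  | succ f ih =>
    intro n k M hf hs hM
    unfold pl
    by_cases hn : n = 0
    · rw [if_pos hn]
      refine ⟨[], by simp, ?_⟩
      rcases Multiset.empty_or_exists_mem M with rfl | ⟨a, ha⟩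
      · rfl
      · have := Multiset.single_le_sum (fun _ _ => Nat.zero_le _) a ha
        have := (hM a ha).1.1
        omega
    rw [if_neg hn]
    have hne : ∃ a, a ∈ M := by
      rcases Multiset.empty_or_exists_mem M with rfl | h
      · exact absurd hs.symm hn
      · exact h
    have hk : k ≠ 0 := by
      obtain ⟨a, ha⟩ := hne
      have := (hM a ha).1.1
      have := (hM a ha).2
      omega
    rw [if_neg hk]
    by_cases hkM : k ∈ M
    · obtain ⟨M', rfl⟩ := Multiset.exists_cons_of_mem hkM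
      rw [Multiset.sum_cons] at hs
      obtain ⟨l, hl, rfl⟩ := ih (n - k) k M' (by omega) (by omega)
        (fun a ha => hM a (Multiset.mem_cons_of_mem ha))
      refine ⟨k :: l, List.mem_append_right _ ?_, rfl⟩
      rw [if_pos ⟨by omega, (hM k hkM).1.2⟩]
      exact List.mem_map_of_mem hl
    · obtain ⟨l, hl, rfl⟩ := ih n (k - 1) M (by omega) hs (fun a ha => ⟨(hM a ha).1, by
        have := (hM a ha).2
        have : a ≠ k := fun h => hkM (h ▸ ha)
        omega⟩)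
      exact ⟨l, List.mem_append_left _ hl, rfl⟩

/-- search trees -/
inductive Tr
  | nil : Tr
  | node : Tr → ℕ → ℕ → Tr → Tr

/-- lookup -/
def Tr.get : Tr → ℕ → ℕ
  | .nil, _ => 0
  | .node l k v r, x => cond (Nat.blt x k) (l.get x) (cond (Nat.beq x k) v (r.get x))

/-- additive code of a list of sizes -/
def cl (l : List ℕ) : ℕ := (l.map (16 ^ ·)).sum

/-- additive code of a multiset of sizes -/
def code (M : Multiset ℕ) : ℕ := (M.map (16 ^ ·)).sum

theorem code_coe (l : List ℕ) : code (l : Multiset ℕ) = cl l := by simp [code, cl]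

theorem code_add (M M' : Multiset ℕ) : code (M + M') = code M + code M' := by simp [code]

theorem code_cons (a : ℕ) (M : Multiset ℕ) : code (a ::ₘ M) = 16 ^ a + code M := by simp [code]

/-- square of the bound for an arbitrary group of degree `s` -/
def G (s : ℕ) : ℕ := if s = 2 then 4 else 3 ^ (s - 1)

/-- the finite checks -/
structure Cert (p : ℕ) (t : Tr) (PL : ℕ → List (List ℕ)) (w : ℕ → ℕ) : Prop where
  eq : ∀ n ∈ List.range 13, pl p (n + n + 1) n n = PL n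
  zero : 1 ≤ t.get 0
  mono : ∀ b ∈ List.range 12, ok p b → ∀ a ∈ List.range (12 - b), ∀ X ∈ PL a, ∀ Q ∈ PL b,
    t.get (cl X + cl Q) ≤ t.get (16 ^ b + cl X) ∧
    ∀ c ∈ X, t.get (cl X + cl Q + c) ≤ t.get (16 ^ b + cl X + c)
  one : ∀ b ∈ List.range 11, ok p (b + 1) → ∀ a ∈ List.range (11 - b), ∀ R ∈ PL a, ∀ Q ∈ PL b,
    (Q.map fun c => t.get (cl Q + cl R + c)).sum + t.get (cl Q + cl R) ≤
      t.get (16 ^ (b + 1) + cl R + (b + 1)) ∧
    ((∀ x ∈ R, b + 1 ≤ x) →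
      (Q.map fun c => t.get (cl Q + cl R + c)).sum ≤ t.get (16 ^ (b + 1) + cl R))
  two : ∀ b ∈ List.range 5, ok p (b + 1) → ∀ a ∈ List.range (10 - 2 * b), ∀ R ∈ PL a, ∀ Q ∈ PL b,
    ∀ C ∈ PL (b + 1),
    (C.map fun c => t.get (cl C + cl Q + cl R + c)).sum ≤
      t.get (16 ^ (b + 1) + (16 ^ (b + 1) + cl R) + (b + 1)) ∧
    ((∀ x ∈ R, b + 1 ≤ x) → (C.map fun c => t.get (cl C + cl Q + cl R + c)).sum ≤
      t.get (16 ^ (b + 1) + (16 ^ (b + 1) + cl R)))
  top : ∀ b ∈ List.range 12, ok p (b + 1) → b ≠ 4 → ∀ Q ∈ PL b, ¬ (b = 3 ∧ 3 ∈ Q) →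
    (Q.map w).prod + (Q.map fun c => t.get (cl Q + c)).sum ≤ w (b + 1)
  sup : ∀ b ∈ List.range 13, ok p b → ∀ Q ∈ PL b, (Q.map w).prod ≤ w b
  sq : ∀ d ∈ List.range 13, ok p d → w d ^ 2 ≤ G d
  w4 : 5 ≤ w 4
  w5 : 7 ≤ w 5

variable {p : ℕ} {t : Tr} {PL : ℕ → List (List ℕ)} {w : ℕ → ℕ}

theorem Cert.ex (c : Cert p t PL w) (M : Multiset ℕ) (h : ∀ a ∈ M, ok p a) (hs : M.sum ≤ 12) :
    ∃ l ∈ PL l.sum, (l : Multiset ℕ) = M := by
  obtain ⟨l, hl, rfl⟩ := pl_complete p (M.sum + M.sum + 1) M.sum M.sum M (by omega) rfl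
    (fun a ha => ⟨h a ha, Multiset.single_le_sum (fun _ _ => Nat.zero_le _) a ha⟩)
  rw [c.eq _ (List.mem_range.2 (by omega))] at hl
  exact ⟨l, by simpa using hl, rfl⟩

theorem Cert.pot (c : Cert p t PL w) :
    Pot 11 (ok p) (fun M d => (t.get (code M + d) : ℝ)) (fun M => (t.get (code M) : ℝ)) where
  zero := by exact_mod_cast c.zero
  nno := fun _ _ => Nat.cast_nonneg _
  nnf := fun _ => Nat.cast_nonneg _
  mo := fun X Q x hx hX hQ hs hN => by
    obtain ⟨X, hX', rfl⟩ := c.ex X hX (by omega)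
    obtain ⟨Q, hQ', rfl⟩ := c.ex Q hQ (by omega)
    simp only [Multiset.sum_coe] at hs hN ⊢
    have := (c.mono _ (List.mem_range.2 (by omega)) hs _ (List.mem_range.2 (by omega))
      X hX' Q hQ').2 x (by simpa using hx)
    rw [code_add, code_cons, code_coe, code_coe]
    exact_mod_cast this
  mf := fun X Q hX hQ hs hN => by
    obtain ⟨X, hX', rfl⟩ := c.ex X hX (by omega)
    obtain ⟨Q, hQ', rfl⟩ := c.ex Q hQ (by omega)
    simp only [Multiset.sum_coe] at hs hN ⊢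
    have := (c.mono _ (List.mem_range.2 (by omega)) hs _ (List.mem_range.2 (by omega))
      X hX' Q hQ').1
    rw [code_add, code_cons, code_coe, code_coe]
    exact_mod_cast this
  one := fun R Q hR hQ hs hN => by
    obtain ⟨R, hR', rfl⟩ := c.ex R hR (by omega)
    obtain ⟨Q, hQ', rfl⟩ := c.ex Q hQ (by omega)
    simp only [Multiset.sum_coe] at hs hN ⊢
    have := c.one _ (List.mem_range.2 (by omega)) hs _ (List.mem_range.2 (by omega))
      R hR' Q hQ'
    simp only [code_add, code_cons, code_coe, Multiset.map_coe, Multiset.sum_coe,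
      Multiset.mem_coe]
    rw [show (Q.map fun c => ((t.get (cl Q + cl R + c) : ℕ) : ℝ)).sum =
      (((Q.map fun c => t.get (cl Q + cl R + c)).sum : ℕ) : ℝ) by
        rw [Nat.cast_list_sum, List.map_map]; rfl]
    exact_mod_cast this
  two := fun R Q C hR hQ hC hs hCs hN => by
    obtain ⟨R, hR', rfl⟩ := c.ex R hR (by omega)
    obtain ⟨Q, hQ', rfl⟩ := c.ex Q hQ (by omega)
    obtain ⟨C, hC', rfl⟩ := c.ex C hC (by omega)
    simp only [Multiset.sum_coe] at hs hN hCs ⊢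
    rw [hCs] at hC'
    have := c.two _ (List.mem_range.2 (by omega)) hs _ (List.mem_range.2 (by omega))
      R hR' Q hQ' C hC'
    simp only [code_add, code_cons, code_coe, Multiset.map_coe, Multiset.sum_coe,
      Multiset.mem_coe]
    rw [show (C.map fun c => ((t.get (cl C + cl Q + cl R + c) : ℕ) : ℝ)).sum =
      (((C.map fun c => t.get (cl C + cl Q + cl R + c)).sum : ℕ) : ℝ) by
        rw [Nat.cast_list_sum, List.map_map]; rfl]
    exact_mod_cast this

def t3 : Tr :=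
  (.node (.node (.node (.node (.node (.node (.node (.node (.node .nil 0 1 .nil) 17 1 .nil) 32 1
    (.node (.node .nil 33 1 .nil) 48 1 .nil)) 49 1 (.node (.node (.node .nil 64 1 .nil) 65 1 .nil)
    80 1 (.node .nil 81 1 .nil))) 96 1 (.node (.node (.node (.node .nil 97 1 .nil) 112 1 .nil) 113 1
    (.node .nil 128 1 .nil)) 129 1 (.node (.node (.node .nil 144 1 .nil) 145 1 .nil) 160 1 (.node
    .nil 161 1 .nil)))) 176 1 (.node (.node (.node (.node (.node .nil 177 1 .nil) 256 1 .nil) 258 1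
    (.node .nil 272 1 .nil)) 273 1 (.node (.node (.node .nil 274 2 .nil) 288 1 .nil) 289 1 (.node
    .nil 290 2 .nil))) 304 1 (.node (.node (.node (.node .nil 305 1 .nil) 306 2 .nil) 320 1 (.node
    .nil 321 1 .nil)) 322 2 (.node (.node (.node .nil 336 1 .nil) 337 1 .nil) 338 2 (.node .nil 352
    1 .nil))))) 353 1 (.node (.node (.node (.node (.node (.node .nil 354 2 .nil) 368 1 .nil) 369 1
    (.node .nil 370 2 .nil)) 384 1 (.node (.node (.node .nil 385 1 .nil) 386 2 .nil) 400 1 (.node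
    .nil 401 1 .nil))) 402 2 (.node (.node (.node (.node .nil 512 2 .nil) 514 2 .nil) 528 1 (.node
    .nil 529 2 .nil)) 530 2 (.node (.node (.node .nil 544 2 .nil) 545 2 .nil) 546 2 (.node .nil 560
    2 .nil)))) 561 2 (.node (.node (.node (.node (.node .nil 562 2 .nil) 576 2 .nil) 577 2 (.node
    .nil 578 2 .nil)) 592 2 (.node (.node (.node .nil 593 2 .nil) 594 2 .nil) 608 2 (.node .nil 609
    2 .nil))) 610 2 (.node (.node (.node (.node .nil 624 2 .nil) 625 2 .nil) 626 2 (.node .nil 768 2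
    .nil)) 770 3 (.node (.node (.node .nil 784 2 .nil) 785 2 .nil) 786 4 (.node .nil 800 2
    .nil)))))) 801 2 (.node (.node (.node (.node (.node (.node (.node .nil 802 4 .nil) 816 2 .nil)
    817 2 (.node (.node .nil 818 4 .nil) 832 2 .nil)) 833 2 (.node (.node (.node .nil 834 4 .nil)
    848 2 .nil) 849 2 (.node .nil 850 4 .nil))) 1024 4 (.node (.node (.node (.node .nil 1026 4 .nil)
    1040 2 .nil) 1041 4 (.node .nil 1042 4 .nil)) 1056 4 (.node (.node (.node .nil 1057 4 .nil) 1058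
    4 .nil) 1072 4 (.node .nil 1073 4 .nil)))) 1074 4 (.node (.node (.node (.node (.node .nil 1280 4
    .nil) 1282 6 .nil) 1296 4 (.node .nil 1297 4 .nil)) 1298 8 (.node (.node (.node .nil 65536 3
    .nil) 65540 4 .nil) 65552 1 (.node .nil 65553 3 .nil))) 65556 4 (.node (.node (.node (.node .nil
    65568 3 .nil) 65569 3 .nil) 65572 4 (.node .nil 65584 3 .nil)) 65585 3 (.node (.node (.node .nil
    65588 4 .nil) 65600 3 .nil) 65601 3 (.node .nil 65604 4 .nil))))) 65616 3 (.node (.node (.node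
    (.node (.node (.node .nil 65617 3 .nil) 65620 4 .nil) 65632 3 (.node .nil 65633 3 .nil)) 65636 4
    (.node (.node (.node .nil 65648 3 .nil) 65649 3 .nil) 65652 4 (.node .nil 65792 3 .nil))) 65794
    4 (.node (.node (.node (.node .nil 65796 5 .nil) 65808 3 .nil) 65809 3 (.node .nil 65810 6
    .nil)) 65812 6 (.node (.node (.node .nil 65824 3 .nil) 65825 3 .nil) 65826 6 (.node .nil 65828 6
    .nil)))) 65840 3 (.node (.node (.node (.node (.node .nil 65841 3 .nil) 65842 6 .nil) 65844 6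
    (.node .nil 65856 3 .nil)) 65857 3 (.node (.node (.node .nil 65858 6 .nil) 65860 6 .nil) 65872 3
    (.node .nil 65873 3 .nil))) 65874 6 (.node (.node (.node (.node .nil 65876 6 .nil) 66048 6 .nil)
    66050 6 (.node .nil 66052 8 .nil)) 66064 3 (.node (.node (.node .nil 66065 6 .nil) 66066 6 .nil)
    66068 8 (.node .nil 66080 6 .nil))))))) 66081 6 (.node (.node (.node (.node (.node (.node (.node
    (.node .nil 66082 6 .nil) 66084 8 .nil) 66096 6 (.node (.node .nil 66097 6 .nil) 66098 6 .nil))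
    66100 8 (.node (.node (.node .nil 66304 6 .nil) 66306 9 .nil) 66308 10 (.node .nil 66320 6
    .nil))) 66321 6 (.node (.node (.node (.node .nil 66322 12 .nil) 66324 12 .nil) 131072 9 (.node
    .nil 131076 12 .nil)) 131088 3 (.node (.node (.node .nil 131089 9 .nil) 131092 12 .nil) 131104 9
    (.node .nil 131105 9 .nil)))) 131108 12 (.node (.node (.node (.node (.node .nil 131120 9 .nil)
    131121 9 .nil) 131124 12 (.node .nil 131328 9 .nil)) 131330 12 (.node (.node (.node .nil 131332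
    15 .nil) 131344 9 .nil) 131345 9 (.node .nil 131346 18 .nil))) 131348 18 (.node (.node (.node
    (.node .nil 1048576 4 .nil) 1048581 7 .nil) 1048592 3 (.node .nil 1048593 4 .nil)) 1048597 5
    (.node (.node (.node .nil 1048608 4 .nil) 1048609 4 .nil) 1048613 7 (.node .nil 1048624 4
    .nil))))) 1048625 4 (.node (.node (.node (.node (.node (.node .nil 1048629 7 .nil) 1048640 4
    .nil) 1048641 4 (.node .nil 1048645 7 .nil)) 1048656 4 (.node (.node (.node .nil 1048657 4 .nil)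
    1048661 7 .nil) 1048672 4 (.node .nil 1048673 4 .nil))) 1048677 7 (.node (.node (.node (.node
    .nil 1048832 4 .nil) 1048834 7 .nil) 1048837 8 (.node .nil 1048848 4 .nil)) 1048849 4 (.node
    (.node (.node .nil 1048850 8 .nil) 1048853 10 .nil) 1048864 4 (.node .nil 1048865 4 .nil))))
    1048866 8 (.node (.node (.node (.node (.node .nil 1048869 10 .nil) 1048880 4 .nil) 1048881 4
    (.node .nil 1048882 8 .nil)) 1048885 10 (.node (.node (.node .nil 1048896 4 .nil) 1048897 4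
    .nil) 1048898 8 (.node .nil 1048901 10 .nil))) 1049088 8 (.node (.node (.node (.node .nil
    1049090 8 .nil) 1049093 14 .nil) 1049104 6 (.node .nil 1049105 8 .nil)) 1049106 8 (.node (.node
    (.node .nil 1049109 11 .nil) 1049120 8 .nil) 1049121 8 (.node .nil 1049122 8 .nil)))))) 1049125
    14 (.node (.node (.node (.node (.node (.node (.node .nil 1049344 8 .nil) 1049346 14 .nil)
    1049349 16 (.node .nil 1114112 12 .nil)) 1114116 16 (.node (.node (.node .nil 1114117 21 .nil)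
    1114128 9 .nil) 1114129 12 (.node .nil 1114132 16 .nil))) 1114133 15 (.node (.node (.node (.node
    .nil 1114144 12 .nil) 1114145 12 .nil) 1114148 16 (.node .nil 1114149 21 .nil)) 1114368 12
    (.node (.node (.node .nil 1114370 21 .nil) 1114372 22 .nil) 1114373 24 (.node .nil 2097152 21
    .nil)))) 2097157 28 (.node (.node (.node (.node (.node .nil 2097168 12 .nil) 2097169 21 .nil)
    2097173 25 (.node .nil 268435456 10 .nil)) 268435463 13 (.node (.node (.node .nil 268435472 4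
    .nil) 268435473 10 .nil) 268435479 15 (.node .nil 268435488 10 .nil))) 268435489 10 (.node
    (.node (.node (.node .nil 268435495 15 .nil) 268435504 10 .nil) 268435505 10 (.node .nil
    268435511 15 .nil)) 268435520 10 (.node (.node (.node .nil 268435521 10 .nil) 268435527 15 .nil)
    268435712 10 (.node .nil 268435714 14 .nil))))) 268435719 20 (.node (.node (.node (.node (.node
    (.node .nil 268435728 10 .nil) 268435729 10 .nil) 268435730 20 (.node .nil 268435735 18 .nil))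
    268435744 10 (.node (.node (.node .nil 268435745 10 .nil) 268435746 20 .nil) 268435751 20 (.node
    .nil 268435968 20 .nil))) 268435970 20 (.node (.node (.node (.node .nil 268435975 26 .nil)
    268500992 30 .nil) 268500996 40 (.node .nil 268500999 39 .nil)) 4294967296 15 (.node (.node
    (.node .nil 4294967304 23 .nil) 4294967312 10 .nil) 4294967313 15 (.node .nil 4294967320 22
    .nil)))) 4294967328 15 (.node (.node (.node (.node (.node .nil 4294967329 15 .nil) 4294967336 25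
    .nil) 4294967344 15 (.node .nil 4294967345 15 .nil)) 4294967352 25 (.node (.node (.node .nil
    4294967552 15 .nil) 4294967554 25 .nil) 4294967560 30 (.node .nil 4294967568 15 .nil)))
    4294967569 15 (.node (.node (.node (.node .nil 4294967570 30 .nil) 4294967576 28 .nil)
    1099511627776 37 (.node .nil 1099511627786 49 .nil)) 1099511627792 15 (.node (.node (.node .nil
    1099511627793 37 .nil) 1099511627802 55 .nil) 17592186044416 56 (.node .nil 17592186044427 86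
    .nil))))))))

def PL3 (n : ℕ) : List (List ℕ) :=
  List.getD [[[]],
   [[1]],
   [[1, 1], [2]],
   [[1, 1, 1], [2, 1]],
   [[1, 1, 1, 1], [2, 1, 1], [2, 2], [4]],
   [[1, 1, 1, 1, 1], [2, 1, 1, 1], [2, 2, 1], [4, 1], [5]],
   [[1, 1, 1, 1, 1, 1], [2, 1, 1, 1, 1], [2, 2, 1, 1], [2, 2, 2], [4, 1, 1], [4, 2], [5, 1]],
   [[1, 1, 1, 1, 1, 1, 1], [2, 1, 1, 1, 1, 1], [2, 2, 1, 1, 1], [2, 2, 2, 1], [4, 1, 1, 1], [4, 2,
    1], [5, 1, 1], [5, 2], [7]],
   [[1, 1, 1, 1, 1, 1, 1, 1], [2, 1, 1, 1, 1, 1, 1], [2, 2, 1, 1, 1, 1], [2, 2, 2, 1, 1], [2, 2, 2,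
    2], [4, 1, 1, 1, 1], [4, 2, 1, 1], [4, 2, 2], [4, 4], [5, 1, 1, 1], [5, 2, 1], [7, 1], [8]],
   [[1, 1, 1, 1, 1, 1, 1, 1, 1], [2, 1, 1, 1, 1, 1, 1, 1], [2, 2, 1, 1, 1, 1, 1], [2, 2, 2, 1, 1,
    1], [2, 2, 2, 2, 1], [4, 1, 1, 1, 1, 1], [4, 2, 1, 1, 1], [4, 2, 2, 1], [4, 4, 1], [5, 1, 1, 1,
    1], [5, 2, 1, 1], [5, 2, 2], [5, 4], [7, 1, 1], [7, 2], [8, 1]],
   [[1, 1, 1, 1, 1, 1, 1, 1, 1, 1], [2, 1, 1, 1, 1, 1, 1, 1, 1], [2, 2, 1, 1, 1, 1, 1, 1], [2, 2, 2,
    1, 1, 1, 1], [2, 2, 2, 2, 1, 1], [2, 2, 2, 2, 2], [4, 1, 1, 1, 1, 1, 1], [4, 2, 1, 1, 1, 1], [4,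
    2, 2, 1, 1], [4, 2, 2, 2], [4, 4, 1, 1], [4, 4, 2], [5, 1, 1, 1, 1, 1], [5, 2, 1, 1, 1], [5, 2,
    2, 1], [5, 4, 1], [5, 5], [7, 1, 1, 1], [7, 2, 1], [8, 1, 1], [8, 2], [10]],
   [[1, 1, 1, 1, 1, 1, 1, 1, 1, 1, 1], [2, 1, 1, 1, 1, 1, 1, 1, 1, 1], [2, 2, 1, 1, 1, 1, 1, 1, 1],
    [2, 2, 2, 1, 1, 1, 1, 1], [2, 2, 2, 2, 1, 1, 1], [2, 2, 2, 2, 2, 1], [4, 1, 1, 1, 1, 1, 1, 1],
    [4, 2, 1, 1, 1, 1, 1], [4, 2, 2, 1, 1, 1], [4, 2, 2, 2, 1], [4, 4, 1, 1, 1], [4, 4, 2, 1], [5,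
    1, 1, 1, 1, 1, 1], [5, 2, 1, 1, 1, 1], [5, 2, 2, 1, 1], [5, 2, 2, 2], [5, 4, 1, 1], [5, 4, 2],
    [5, 5, 1], [7, 1, 1, 1, 1], [7, 2, 1, 1], [7, 2, 2], [7, 4], [8, 1, 1, 1], [8, 2, 1], [10, 1],
    [11]],
   [[1, 1, 1, 1, 1, 1, 1, 1, 1, 1, 1, 1], [2, 1, 1, 1, 1, 1, 1, 1, 1, 1, 1], [2, 2, 1, 1, 1, 1, 1,
    1, 1, 1], [2, 2, 2, 1, 1, 1, 1, 1, 1], [2, 2, 2, 2, 1, 1, 1, 1], [2, 2, 2, 2, 2, 1, 1], [2, 2,
    2, 2, 2, 2], [4, 1, 1, 1, 1, 1, 1, 1, 1], [4, 2, 1, 1, 1, 1, 1, 1], [4, 2, 2, 1, 1, 1, 1], [4,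
    2, 2, 2, 1, 1], [4, 2, 2, 2, 2], [4, 4, 1, 1, 1, 1], [4, 4, 2, 1, 1], [4, 4, 2, 2], [4, 4, 4],
    [5, 1, 1, 1, 1, 1, 1, 1], [5, 2, 1, 1, 1, 1, 1], [5, 2, 2, 1, 1, 1], [5, 2, 2, 2, 1], [5, 4, 1,
    1, 1], [5, 4, 2, 1], [5, 5, 1, 1], [5, 5, 2], [7, 1, 1, 1, 1, 1], [7, 2, 1, 1, 1], [7, 2, 2, 1],
    [7, 4, 1], [7, 5], [8, 1, 1, 1, 1], [8, 2, 1, 1], [8, 2, 2], [8, 4], [10, 1, 1], [10, 2], [11,
    1]]] n []

def w3 (n : ℕ) : ℕ := List.getD [1, 1, 2, 1, 5, 7, 1, 19, 32, 1, 72, 121, 1] n 0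

def t5 : Tr :=
  (.node (.node (.node (.node (.node (.node (.node (.node (.node .nil 0 1 .nil) 17 1 (.node .nil 32
    1 .nil)) 33 1 (.node (.node .nil 48 1 .nil) 49 1 (.node .nil 64 1 .nil))) 65 1 (.node (.node
    (.node .nil 80 1 .nil) 81 1 (.node .nil 96 1 .nil)) 97 1 (.node (.node .nil 112 1 .nil) 113 1
    (.node .nil 128 1 .nil)))) 129 1 (.node (.node (.node (.node .nil 144 1 .nil) 145 1 (.node .nil
    160 1 .nil)) 161 1 (.node (.node .nil 176 1 .nil) 177 1 (.node .nil 256 1 .nil))) 258 1 (.node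
    (.node (.node .nil 272 1 .nil) 273 1 (.node .nil 274 2 .nil)) 288 1 (.node (.node .nil 289 1
    .nil) 290 2 (.node .nil 304 1 .nil))))) 305 1 (.node (.node (.node (.node (.node .nil 306 2
    .nil) 320 1 (.node .nil 321 1 .nil)) 322 2 (.node (.node .nil 336 1 .nil) 337 1 (.node .nil 338
    2 .nil))) 352 1 (.node (.node (.node .nil 353 1 .nil) 354 2 (.node .nil 368 1 .nil)) 369 1
    (.node (.node .nil 370 2 .nil) 384 1 (.node .nil 385 1 .nil)))) 386 2 (.node (.node (.node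
    (.node .nil 400 1 .nil) 401 1 (.node .nil 402 2 .nil)) 512 2 (.node (.node .nil 514 2 .nil) 528
    1 (.node .nil 529 2 .nil))) 530 2 (.node (.node (.node .nil 544 2 .nil) 545 2 (.node .nil 546 2
    .nil)) 560 2 (.node (.node .nil 561 2 .nil) 562 2 (.node .nil 576 2 .nil)))))) 577 2 (.node
    (.node (.node (.node (.node (.node .nil 578 2 .nil) 592 2 (.node .nil 593 2 .nil)) 594 2 (.node
    (.node .nil 608 2 .nil) 609 2 (.node .nil 610 2 .nil))) 624 2 (.node (.node (.node .nil 625 2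
    .nil) 626 2 (.node .nil 768 2 .nil)) 770 3 (.node (.node .nil 784 2 .nil) 785 2 (.node .nil 786
    4 .nil)))) 800 2 (.node (.node (.node (.node .nil 801 2 .nil) 802 4 (.node .nil 816 2 .nil)) 817
    2 (.node (.node .nil 818 4 .nil) 832 2 (.node .nil 833 2 .nil))) 834 4 (.node (.node (.node .nil
    848 2 .nil) 849 2 (.node .nil 850 4 .nil)) 1024 4 (.node (.node .nil 1026 4 .nil) 1040 2 (.node
    .nil 1041 4 .nil))))) 1042 4 (.node (.node (.node (.node (.node .nil 1056 4 .nil) 1057 4 (.node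
    .nil 1058 4 .nil)) 1072 4 (.node (.node .nil 1073 4 .nil) 1074 4 (.node .nil 1280 4 .nil))) 1282
    6 (.node (.node (.node .nil 1296 4 .nil) 1297 4 (.node .nil 1298 8 .nil)) 4096 2 (.node (.node
    .nil 4099 3 .nil) 4112 1 (.node .nil 4113 2 .nil)))) 4115 3 (.node (.node (.node (.node .nil
    4128 2 .nil) 4129 2 (.node .nil 4131 3 .nil)) 4144 2 (.node (.node .nil 4145 2 .nil) 4147 3
    (.node .nil 4160 2 .nil))) 4161 2 (.node (.node (.node .nil 4163 3 .nil) 4176 2 (.node .nil 4177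
    2 .nil)) 4179 3 (.node (.node .nil 4192 2 .nil) 4193 2 (.node .nil 4195 3 .nil))))))) 4208 2
    (.node (.node (.node (.node (.node (.node (.node .nil 4209 2 .nil) 4211 3 (.node .nil 4224 2
    .nil)) 4225 2 (.node (.node .nil 4227 3 .nil) 4352 2 (.node .nil 4354 3 .nil))) 4355 4 (.node
    (.node (.node .nil 4368 2 .nil) 4369 2 (.node .nil 4370 4 .nil)) 4371 3 (.node (.node .nil 4384
    2 .nil) 4385 2 (.node .nil 4386 4 .nil)))) 4387 4 (.node (.node (.node (.node .nil 4400 2 .nil)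
    4401 2 (.node .nil 4402 4 .nil)) 4403 4 (.node (.node .nil 4416 2 .nil) 4417 2 (.node .nil 4418
    4 .nil))) 4419 4 (.node (.node (.node .nil 4432 2 .nil) 4433 2 (.node .nil 4434 4 .nil)) 4435 4
    (.node (.node .nil 4448 2 .nil) 4449 2 (.node .nil 4450 4 .nil))))) 4451 4 (.node (.node (.node
    (.node (.node .nil 4608 4 .nil) 4610 4 (.node .nil 4611 6 .nil)) 4624 2 (.node (.node .nil 4625
    4 .nil) 4626 4 (.node .nil 4627 6 .nil))) 4640 4 (.node (.node (.node .nil 4641 4 .nil) 4642 4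
    (.node .nil 4643 6 .nil)) 4656 4 (.node (.node .nil 4657 4 .nil) 4658 4 (.node .nil 4659 6
    .nil)))) 4672 4 (.node (.node (.node (.node .nil 4673 4 .nil) 4674 4 (.node .nil 4675 6 .nil))
    4864 4 (.node (.node .nil 4866 6 .nil) 4867 8 (.node .nil 4880 4 .nil))) 4881 4 (.node (.node
    (.node .nil 4882 8 .nil) 4883 6 (.node .nil 4896 4 .nil)) 4897 4 (.node (.node .nil 4898 8 .nil)
    4899 8 (.node .nil 5120 8 .nil)))))) 5122 8 (.node (.node (.node (.node (.node (.node .nil 5123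
    12 .nil) 8192 4 (.node .nil 8195 6 .nil)) 8208 2 (.node (.node .nil 8209 4 .nil) 8211 6 (.node
    .nil 8224 4 .nil))) 8225 4 (.node (.node (.node .nil 8227 6 .nil) 8240 4 (.node .nil 8241 4
    .nil)) 8243 6 (.node (.node .nil 8256 4 .nil) 8257 4 (.node .nil 8259 6 .nil)))) 8272 4 (.node
    (.node (.node (.node .nil 8273 4 .nil) 8275 6 (.node .nil 8448 4 .nil)) 8450 6 (.node (.node
    .nil 8451 8 .nil) 8464 4 (.node .nil 8465 4 .nil))) 8466 8 (.node (.node (.node .nil 8467 6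
    .nil) 8480 4 (.node .nil 8481 4 .nil)) 8482 8 (.node (.node .nil 8483 8 .nil) 8496 4 (.node .nil
    8497 4 .nil))))) 8498 8 (.node (.node (.node (.node (.node .nil 8499 8 .nil) 8704 8 (.node .nil
    8706 8 .nil)) 8707 12 (.node (.node .nil 8720 4 .nil) 8721 8 (.node .nil 8722 8 .nil))) 8723 12
    (.node (.node (.node .nil 12288 8 .nil) 12291 12 (.node .nil 12304 4 .nil)) 12305 8 (.node
    (.node .nil 12307 12 .nil) 12320 8 (.node .nil 12321 8 .nil)))) 12323 12 (.node (.node (.node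
    (.node .nil 12544 8 .nil) 12546 12 (.node .nil 12547 16 .nil)) 65536 3 (.node (.node .nil 65540
    5 .nil) 65552 2 (.node .nil 65553 3 .nil))) 65556 4 (.node (.node (.node .nil 65568 3 .nil)
    65569 3 (.node .nil 65572 5 .nil)) 65584 3 (.node (.node .nil 65585 3 .nil) 65588 5 .nil)))))))
    65600 3 (.node (.node (.node (.node (.node (.node (.node (.node .nil 65601 3 .nil) 65604 5
    (.node .nil 65616 3 .nil)) 65617 3 (.node (.node .nil 65620 5 .nil) 65632 3 (.node .nil 65633 3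
    .nil))) 65636 5 (.node (.node (.node .nil 65648 3 .nil) 65649 3 (.node .nil 65652 5 .nil)) 65792
    3 (.node (.node .nil 65794 5 .nil) 65796 6 (.node .nil 65808 3 .nil)))) 65809 3 (.node (.node
    (.node (.node .nil 65810 6 .nil) 65812 6 (.node .nil 65824 3 .nil)) 65825 3 (.node (.node .nil
    65826 6 .nil) 65828 6 (.node .nil 65840 3 .nil))) 65841 3 (.node (.node (.node .nil 65842 6
    .nil) 65844 6 (.node .nil 65856 3 .nil)) 65857 3 (.node (.node .nil 65858 6 .nil) 65860 6 (.node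
    .nil 65872 3 .nil))))) 65873 3 (.node (.node (.node (.node (.node .nil 65874 6 .nil) 65876 6
    (.node .nil 66048 6 .nil)) 66050 6 (.node (.node .nil 66052 10 .nil) 66064 4 (.node .nil 66065 6
    .nil))) 66066 6 (.node (.node (.node .nil 66068 8 .nil) 66080 6 (.node .nil 66081 6 .nil)) 66082
    6 (.node (.node .nil 66084 10 .nil) 66096 6 (.node .nil 66097 6 .nil)))) 66098 6 (.node (.node
    (.node (.node .nil 66100 10 .nil) 66304 6 (.node .nil 66306 10 .nil)) 66308 12 (.node (.node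
    .nil 66320 6 .nil) 66321 6 (.node .nil 66322 12 .nil))) 66324 12 (.node (.node (.node .nil 69632
    6 .nil) 69635 9 (.node .nil 69636 10 .nil)) 69648 4 (.node (.node .nil 69649 6 .nil) 69651 9
    (.node .nil 69652 8 .nil)))))) 69664 6 (.node (.node (.node (.node (.node (.node .nil 69665 6
    .nil) 69667 9 (.node .nil 69668 10 .nil)) 69680 6 (.node (.node .nil 69681 6 .nil) 69683 9
    (.node .nil 69684 10 .nil))) 69696 6 (.node (.node (.node .nil 69697 6 .nil) 69699 9 (.node .nil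
    69700 10 .nil)) 69888 6 (.node (.node .nil 69890 10 .nil) 69891 12 (.node .nil 69892 12 .nil))))
    69904 6 (.node (.node (.node (.node .nil 69905 6 .nil) 69906 12 (.node .nil 69907 10 .nil))
    69908 12 (.node (.node .nil 69920 6 .nil) 69921 6 (.node .nil 69922 12 .nil))) 69923 12 (.node
    (.node (.node .nil 69924 12 .nil) 70144 12 (.node .nil 70146 12 .nil)) 70147 18 (.node (.node
    .nil 70148 20 .nil) 73728 12 (.node .nil 73731 18 .nil))))) 73732 20 (.node (.node (.node (.node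
    (.node .nil 73744 8 .nil) 73745 12 (.node .nil 73747 18 .nil)) 73748 16 (.node (.node .nil
    131072 10 .nil) 131076 15 (.node .nil 131088 6 .nil))) 131089 10 (.node (.node (.node .nil
    131092 13 .nil) 131104 10 (.node .nil 131105 10 .nil)) 131108 15 (.node (.node .nil 131120 10
    .nil) 131121 10 (.node .nil 131124 15 .nil)))) 131328 10 (.node (.node (.node (.node .nil 131330
    16 .nil) 131332 18 (.node .nil 131344 10 .nil)) 131345 10 (.node (.node .nil 131346 20 .nil)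
    131348 18 (.node .nil 135168 20 .nil))) 135171 30 (.node (.node (.node .nil 135172 30 .nil)
    16777216 7 (.node .nil 16777222 9 .nil)) 16777232 3 (.node (.node .nil 16777233 7 .nil) 16777238
    11 (.node .nil 16777248 7 .nil))))))) 16777249 7 (.node (.node (.node (.node (.node (.node
    (.node .nil 16777254 11 .nil) 16777264 7 (.node .nil 16777265 7 .nil)) 16777270 11 (.node (.node
    .nil 16777280 7 .nil) 16777281 7 (.node .nil 16777286 11 .nil))) 16777296 7 (.node (.node (.node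
    .nil 16777297 7 .nil) 16777302 11 (.node .nil 16777472 7 .nil)) 16777474 10 (.node (.node .nil
    16777478 14 .nil) 16777488 7 (.node .nil 16777489 7 .nil)))) 16777490 14 (.node (.node (.node
    (.node .nil 16777494 12 .nil) 16777504 7 (.node .nil 16777505 7 .nil)) 16777506 14 (.node (.node
    .nil 16777510 14 .nil) 16777520 7 (.node .nil 16777521 7 .nil))) 16777522 14 (.node (.node
    (.node .nil 16777526 14 .nil) 16777728 14 (.node .nil 16777730 14 .nil)) 16777734 18 (.node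
    (.node .nil 16777744 7 .nil) 16777745 14 (.node .nil 16777746 14 .nil))))) 16777750 22 (.node
    (.node (.node (.node (.node .nil 16781312 14 .nil) 16781315 21 (.node .nil 16781318 18 .nil))
    16781328 7 (.node (.node .nil 16781329 14 .nil) 16781331 21 (.node .nil 16781334 22 .nil)))
    16781344 14 (.node (.node (.node .nil 16781345 14 .nil) 16781347 21 (.node .nil 16781350 22
    .nil)) 16781568 14 (.node (.node .nil 16781570 21 .nil) 16781571 28 (.node .nil 16781574 28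
    .nil)))) 16842752 21 (.node (.node (.node (.node .nil 16842756 35 .nil) 16842758 29 (.node .nil
    16842768 14 .nil)) 16842769 21 (.node (.node .nil 16842772 28 .nil) 16842774 35 (.node .nil
    268435456 12 .nil))) 268435463 16 (.node (.node (.node .nil 268435472 7 .nil) 268435473 12
    (.node .nil 268435479 15 .nil)) 268435488 12 (.node (.node .nil 268435489 12 .nil) 268435495 18
    (.node .nil 268435504 12 .nil)))))) 268435505 12 (.node (.node (.node (.node (.node (.node .nil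
    268435511 18 .nil) 268435520 12 (.node .nil 268435521 12 .nil)) 268435527 18 (.node (.node .nil
    268435712 12 .nil) 268435714 19 (.node .nil 268435719 22 .nil))) 268435728 12 (.node (.node
    (.node .nil 268435729 12 .nil) 268435730 24 (.node .nil 268435735 19 .nil)) 268435744 12 (.node
    (.node .nil 268435745 12 .nil) 268435746 24 (.node .nil 268435751 22 .nil)))) 268435968 24
    (.node (.node (.node (.node .nil 268435970 24 .nil) 268435975 32 (.node .nil 268439552 24 .nil))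
    268439555 36 (.node (.node .nil 268439559 32 .nil) 268439568 14 (.node .nil 268439569 24 .nil)))
    268439571 36 (.node (.node (.node .nil 268439575 30 .nil) 268500992 36 (.node .nil 268500996 60
    .nil)) 268500999 50 (.node (.node .nil 4294967296 19 .nil) 4294967304 28 (.node .nil 4294967312
    12 .nil))))) 4294967313 19 (.node (.node (.node (.node (.node .nil 4294967320 25 .nil)
    4294967328 19 (.node .nil 4294967329 19 .nil)) 4294967336 30 (.node (.node .nil 4294967344 19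
    .nil) 4294967345 19 (.node .nil 4294967352 30 .nil))) 4294967552 19 (.node (.node (.node .nil
    4294967554 31 .nil) 4294967560 34 (.node .nil 4294967568 19 .nil)) 4294967569 19 (.node (.node
    .nil 4294967570 38 .nil) 4294967576 31 (.node .nil 4294971392 38 .nil)))) 4294971395 57 (.node
    (.node (.node (.node .nil 4294971400 56 .nil) 68719476736 30 (.node .nil 68719476745 47 .nil))
    68719476752 19 (.node (.node .nil 68719476753 30 .nil) 68719476761 42 (.node .nil 68719476768 30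
    .nil))) 68719476769 30 (.node (.node (.node .nil 68719476777 49 .nil) 68719476992 30 (.node .nil
    68719476994 49 .nil)) 68719477001 53 (.node (.node .nil 17592186044416 72 .nil) 17592186044427
    92 .nil))))))))

def PL5 (n : ℕ) : List (List ℕ) :=
  List.getD [[[]],
   [[1]],
   [[1, 1], [2]],
   [[1, 1, 1], [2, 1], [3]],
   [[1, 1, 1, 1], [2, 1, 1], [2, 2], [3, 1], [4]],
   [[1, 1, 1, 1, 1], [2, 1, 1, 1], [2, 2, 1], [3, 1, 1], [3, 2], [4, 1]],
   [[1, 1, 1, 1, 1, 1], [2, 1, 1, 1, 1], [2, 2, 1, 1], [2, 2, 2], [3, 1, 1, 1], [3, 2, 1], [3, 3],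
    [4, 1, 1], [4, 2], [6]],
   [[1, 1, 1, 1, 1, 1, 1], [2, 1, 1, 1, 1, 1], [2, 2, 1, 1, 1], [2, 2, 2, 1], [3, 1, 1, 1, 1], [3,
    2, 1, 1], [3, 2, 2], [3, 3, 1], [4, 1, 1, 1], [4, 2, 1], [4, 3], [6, 1], [7]],
   [[1, 1, 1, 1, 1, 1, 1, 1], [2, 1, 1, 1, 1, 1, 1], [2, 2, 1, 1, 1, 1], [2, 2, 2, 1, 1], [2, 2, 2,
    2], [3, 1, 1, 1, 1, 1], [3, 2, 1, 1, 1], [3, 2, 2, 1], [3, 3, 1, 1], [3, 3, 2], [4, 1, 1, 1, 1],
    [4, 2, 1, 1], [4, 2, 2], [4, 3, 1], [4, 4], [6, 1, 1], [6, 2], [7, 1], [8]],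
   [[1, 1, 1, 1, 1, 1, 1, 1, 1], [2, 1, 1, 1, 1, 1, 1, 1], [2, 2, 1, 1, 1, 1, 1], [2, 2, 2, 1, 1,
    1], [2, 2, 2, 2, 1], [3, 1, 1, 1, 1, 1, 1], [3, 2, 1, 1, 1, 1], [3, 2, 2, 1, 1], [3, 2, 2, 2],
    [3, 3, 1, 1, 1], [3, 3, 2, 1], [3, 3, 3], [4, 1, 1, 1, 1, 1], [4, 2, 1, 1, 1], [4, 2, 2, 1], [4,
    3, 1, 1], [4, 3, 2], [4, 4, 1], [6, 1, 1, 1], [6, 2, 1], [6, 3], [7, 1, 1], [7, 2], [8, 1],
    [9]],
   [[1, 1, 1, 1, 1, 1, 1, 1, 1, 1], [2, 1, 1, 1, 1, 1, 1, 1, 1], [2, 2, 1, 1, 1, 1, 1, 1], [2, 2, 2,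
    1, 1, 1, 1], [2, 2, 2, 2, 1, 1], [2, 2, 2, 2, 2], [3, 1, 1, 1, 1, 1, 1, 1], [3, 2, 1, 1, 1, 1,
    1], [3, 2, 2, 1, 1, 1], [3, 2, 2, 2, 1], [3, 3, 1, 1, 1, 1], [3, 3, 2, 1, 1], [3, 3, 2, 2], [3,
    3, 3, 1], [4, 1, 1, 1, 1, 1, 1], [4, 2, 1, 1, 1, 1], [4, 2, 2, 1, 1], [4, 2, 2, 2], [4, 3, 1, 1,
    1], [4, 3, 2, 1], [4, 3, 3], [4, 4, 1, 1], [4, 4, 2], [6, 1, 1, 1, 1], [6, 2, 1, 1], [6, 2, 2],
    [6, 3, 1], [6, 4], [7, 1, 1, 1], [7, 2, 1], [7, 3], [8, 1, 1], [8, 2], [9, 1]],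
   [[1, 1, 1, 1, 1, 1, 1, 1, 1, 1, 1], [2, 1, 1, 1, 1, 1, 1, 1, 1, 1], [2, 2, 1, 1, 1, 1, 1, 1, 1],
    [2, 2, 2, 1, 1, 1, 1, 1], [2, 2, 2, 2, 1, 1, 1], [2, 2, 2, 2, 2, 1], [3, 1, 1, 1, 1, 1, 1, 1,
    1], [3, 2, 1, 1, 1, 1, 1, 1], [3, 2, 2, 1, 1, 1, 1], [3, 2, 2, 2, 1, 1], [3, 2, 2, 2, 2], [3, 3,
    1, 1, 1, 1, 1], [3, 3, 2, 1, 1, 1], [3, 3, 2, 2, 1], [3, 3, 3, 1, 1], [3, 3, 3, 2], [4, 1, 1, 1,
    1, 1, 1, 1], [4, 2, 1, 1, 1, 1, 1], [4, 2, 2, 1, 1, 1], [4, 2, 2, 2, 1], [4, 3, 1, 1, 1, 1], [4,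
    3, 2, 1, 1], [4, 3, 2, 2], [4, 3, 3, 1], [4, 4, 1, 1, 1], [4, 4, 2, 1], [4, 4, 3], [6, 1, 1, 1,
    1, 1], [6, 2, 1, 1, 1], [6, 2, 2, 1], [6, 3, 1, 1], [6, 3, 2], [6, 4, 1], [7, 1, 1, 1, 1], [7,
    2, 1, 1], [7, 2, 2], [7, 3, 1], [7, 4], [8, 1, 1, 1], [8, 2, 1], [8, 3], [9, 1, 1], [9, 2],
    [11]],
   [[1, 1, 1, 1, 1, 1, 1, 1, 1, 1, 1, 1], [2, 1, 1, 1, 1, 1, 1, 1, 1, 1, 1], [2, 2, 1, 1, 1, 1, 1,
    1, 1, 1], [2, 2, 2, 1, 1, 1, 1, 1, 1], [2, 2, 2, 2, 1, 1, 1, 1], [2, 2, 2, 2, 2, 1, 1], [2, 2,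
    2, 2, 2, 2], [3, 1, 1, 1, 1, 1, 1, 1, 1, 1], [3, 2, 1, 1, 1, 1, 1, 1, 1], [3, 2, 2, 1, 1, 1, 1,
    1], [3, 2, 2, 2, 1, 1, 1], [3, 2, 2, 2, 2, 1], [3, 3, 1, 1, 1, 1, 1, 1], [3, 3, 2, 1, 1, 1, 1],
    [3, 3, 2, 2, 1, 1], [3, 3, 2, 2, 2], [3, 3, 3, 1, 1, 1], [3, 3, 3, 2, 1], [3, 3, 3, 3], [4, 1,
    1, 1, 1, 1, 1, 1, 1], [4, 2, 1, 1, 1, 1, 1, 1], [4, 2, 2, 1, 1, 1, 1], [4, 2, 2, 2, 1, 1], [4,
    2, 2, 2, 2], [4, 3, 1, 1, 1, 1, 1], [4, 3, 2, 1, 1, 1], [4, 3, 2, 2, 1], [4, 3, 3, 1, 1], [4, 3,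
    3, 2], [4, 4, 1, 1, 1, 1], [4, 4, 2, 1, 1], [4, 4, 2, 2], [4, 4, 3, 1], [4, 4, 4], [6, 1, 1, 1,
    1, 1, 1], [6, 2, 1, 1, 1, 1], [6, 2, 2, 1, 1], [6, 2, 2, 2], [6, 3, 1, 1, 1], [6, 3, 2, 1], [6,
    3, 3], [6, 4, 1, 1], [6, 4, 2], [6, 6], [7, 1, 1, 1, 1, 1], [7, 2, 1, 1, 1], [7, 2, 2, 1], [7,
    3, 1, 1], [7, 3, 2], [7, 4, 1], [8, 1, 1, 1, 1], [8, 2, 1, 1], [8, 2, 2], [8, 3, 1], [8, 4], [9,
    1, 1, 1], [9, 2, 1], [9, 3], [11, 1], [12]]] n []

def w5 (n : ℕ) : ℕ := List.getD [1, 1, 2, 3, 5, 7, 13, 22, 38, 66, 1, 141, 234] n 0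

def t7 : Tr :=
  (.node (.node (.node (.node (.node (.node (.node (.node (.node (.node .nil 0 1 .nil) 17 1 .nil) 32
    1 (.node .nil 33 1 .nil)) 48 1 (.node (.node (.node .nil 49 1 .nil) 64 1 .nil) 65 1 (.node .nil
    80 1 .nil))) 81 1 (.node (.node (.node (.node .nil 96 1 .nil) 97 1 .nil) 112 1 (.node .nil 113 1
    .nil)) 128 1 (.node (.node .nil 129 1 .nil) 144 1 (.node .nil 145 1 .nil)))) 160 1 (.node (.node
    (.node (.node (.node .nil 161 1 .nil) 176 1 .nil) 177 1 (.node .nil 256 1 .nil)) 258 1 (.node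
    (.node .nil 272 1 .nil) 273 1 (.node .nil 274 2 .nil))) 288 1 (.node (.node (.node (.node .nil
    289 1 .nil) 290 2 .nil) 304 1 (.node .nil 305 1 .nil)) 306 2 (.node (.node .nil 320 1 .nil) 321
    1 (.node .nil 322 2 .nil))))) 336 1 (.node (.node (.node (.node (.node (.node .nil 337 1 .nil)
    338 2 .nil) 352 1 (.node .nil 353 1 .nil)) 354 2 (.node (.node .nil 368 1 .nil) 369 1 (.node
    .nil 370 2 .nil))) 384 1 (.node (.node (.node (.node .nil 385 1 .nil) 386 2 .nil) 400 1 (.node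
    .nil 401 1 .nil)) 402 2 (.node (.node .nil 512 2 .nil) 514 2 (.node .nil 528 1 .nil)))) 529 2
    (.node (.node (.node (.node (.node .nil 530 2 .nil) 544 2 .nil) 545 2 (.node .nil 546 2 .nil))
    560 2 (.node (.node .nil 561 2 .nil) 562 2 (.node .nil 576 2 .nil))) 577 2 (.node (.node (.node
    (.node .nil 578 2 .nil) 592 2 .nil) 593 2 (.node .nil 594 2 .nil)) 608 2 (.node (.node .nil 609
    2 .nil) 610 2 (.node .nil 624 2 .nil)))))) 625 2 (.node (.node (.node (.node (.node (.node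
    (.node .nil 626 2 .nil) 768 2 .nil) 770 3 (.node .nil 784 2 .nil)) 785 2 (.node (.node .nil 786
    4 .nil) 800 2 (.node .nil 801 2 .nil))) 802 4 (.node (.node (.node (.node .nil 816 2 .nil) 817 2
    .nil) 818 4 (.node .nil 832 2 .nil)) 833 2 (.node (.node .nil 834 4 .nil) 848 2 (.node .nil 849
    2 .nil)))) 850 4 (.node (.node (.node (.node (.node .nil 1024 4 .nil) 1026 4 .nil) 1040 2 (.node
    .nil 1041 4 .nil)) 1042 4 (.node (.node .nil 1056 4 .nil) 1057 4 (.node .nil 1058 4 .nil))) 1072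
    4 (.node (.node (.node (.node .nil 1073 4 .nil) 1074 4 .nil) 1280 4 (.node .nil 1282 6 .nil))
    1296 4 (.node (.node .nil 1297 4 .nil) 1298 8 (.node .nil 4096 2 .nil))))) 4099 3 (.node (.node
    (.node (.node (.node (.node .nil 4112 1 .nil) 4113 2 .nil) 4115 3 (.node .nil 4128 2 .nil)) 4129
    2 (.node (.node .nil 4131 3 .nil) 4144 2 (.node .nil 4145 2 .nil))) 4147 3 (.node (.node (.node
    (.node .nil 4160 2 .nil) 4161 2 .nil) 4163 3 (.node .nil 4176 2 .nil)) 4177 2 (.node (.node .nil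
    4179 3 .nil) 4192 2 (.node .nil 4193 2 .nil)))) 4195 3 (.node (.node (.node (.node (.node .nil
    4208 2 .nil) 4209 2 .nil) 4211 3 (.node .nil 4224 2 .nil)) 4225 2 (.node (.node .nil 4227 3
    .nil) 4352 2 (.node .nil 4354 3 .nil))) 4355 4 (.node (.node (.node (.node .nil 4368 2 .nil)
    4369 2 .nil) 4370 4 (.node .nil 4371 3 .nil)) 4384 2 (.node (.node .nil 4385 2 .nil) 4386 4
    (.node .nil 4387 4 .nil))))))) 4400 2 (.node (.node (.node (.node (.node (.node (.node (.node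
    .nil 4401 2 .nil) 4402 4 .nil) 4403 4 (.node .nil 4416 2 .nil)) 4417 2 (.node (.node (.node .nil
    4418 4 .nil) 4419 4 .nil) 4432 2 (.node .nil 4433 2 .nil))) 4434 4 (.node (.node (.node (.node
    .nil 4435 4 .nil) 4448 2 .nil) 4449 2 (.node .nil 4450 4 .nil)) 4451 4 (.node (.node .nil 4608 4
    .nil) 4610 4 (.node .nil 4611 6 .nil)))) 4624 2 (.node (.node (.node (.node (.node .nil 4625 4
    .nil) 4626 4 .nil) 4627 6 (.node .nil 4640 4 .nil)) 4641 4 (.node (.node .nil 4642 4 .nil) 4643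
    6 (.node .nil 4656 4 .nil))) 4657 4 (.node (.node (.node (.node .nil 4658 4 .nil) 4659 6 .nil)
    4672 4 (.node .nil 4673 4 .nil)) 4674 4 (.node (.node .nil 4675 6 .nil) 4864 4 (.node .nil 4866
    6 .nil))))) 4867 8 (.node (.node (.node (.node (.node (.node .nil 4880 4 .nil) 4881 4 .nil) 4882
    8 (.node .nil 4883 6 .nil)) 4896 4 (.node (.node .nil 4897 4 .nil) 4898 8 (.node .nil 4899 8
    .nil))) 5120 8 (.node (.node (.node (.node .nil 5122 8 .nil) 5123 12 .nil) 8192 4 (.node .nil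
    8195 6 .nil)) 8208 2 (.node (.node .nil 8209 4 .nil) 8211 6 (.node .nil 8224 4 .nil)))) 8225 4
    (.node (.node (.node (.node (.node .nil 8227 6 .nil) 8240 4 .nil) 8241 4 (.node .nil 8243 6
    .nil)) 8256 4 (.node (.node .nil 8257 4 .nil) 8259 6 (.node .nil 8272 4 .nil))) 8273 4 (.node
    (.node (.node (.node .nil 8275 6 .nil) 8448 4 .nil) 8450 6 (.node .nil 8451 8 .nil)) 8464 4
    (.node (.node .nil 8465 4 .nil) 8466 8 (.node .nil 8467 6 .nil)))))) 8480 4 (.node (.node (.node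
    (.node (.node (.node (.node .nil 8481 4 .nil) 8482 8 .nil) 8483 8 (.node .nil 8496 4 .nil)) 8497
    4 (.node (.node .nil 8498 8 .nil) 8499 8 (.node .nil 8704 8 .nil))) 8706 8 (.node (.node (.node
    (.node .nil 8707 12 .nil) 8720 4 .nil) 8721 8 (.node .nil 8722 8 .nil)) 8723 12 (.node (.node
    .nil 12288 8 .nil) 12291 12 (.node .nil 12304 4 .nil)))) 12305 8 (.node (.node (.node (.node
    (.node .nil 12307 12 .nil) 12320 8 .nil) 12321 8 (.node .nil 12323 12 .nil)) 12544 8 (.node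
    (.node .nil 12546 12 .nil) 12547 16 (.node .nil 65536 3 .nil))) 65540 5 (.node (.node (.node
    (.node .nil 65552 2 .nil) 65553 3 .nil) 65556 4 (.node .nil 65568 3 .nil)) 65569 3 (.node (.node
    .nil 65572 5 .nil) 65584 3 (.node .nil 65585 3 .nil))))) 65588 5 (.node (.node (.node (.node
    (.node (.node .nil 65600 3 .nil) 65601 3 .nil) 65604 5 (.node .nil 65616 3 .nil)) 65617 3 (.node
    (.node .nil 65620 5 .nil) 65632 3 (.node .nil 65633 3 .nil))) 65636 5 (.node (.node (.node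
    (.node .nil 65648 3 .nil) 65649 3 .nil) 65652 5 (.node .nil 65792 3 .nil)) 65794 5 (.node (.node
    .nil 65796 6 .nil) 65808 3 (.node .nil 65809 3 .nil)))) 65810 6 (.node (.node (.node (.node
    (.node .nil 65812 6 .nil) 65824 3 .nil) 65825 3 (.node .nil 65826 6 .nil)) 65828 6 (.node (.node
    .nil 65840 3 .nil) 65841 3 (.node .nil 65842 6 .nil))) 65844 6 (.node (.node (.node (.node .nil
    65856 3 .nil) 65857 3 .nil) 65858 6 (.node .nil 65860 6 .nil)) 65872 3 (.node (.node .nil 65873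
    3 .nil) 65874 6 (.node .nil 65876 6 .nil)))))))) 66048 6 (.node (.node (.node (.node (.node
    (.node (.node (.node (.node .nil 66050 6 .nil) 66052 10 .nil) 66064 4 (.node .nil 66065 6 .nil))
    66066 6 (.node (.node (.node .nil 66068 8 .nil) 66080 6 .nil) 66081 6 (.node .nil 66082 6
    .nil))) 66084 10 (.node (.node (.node (.node .nil 66096 6 .nil) 66097 6 .nil) 66098 6 (.node
    .nil 66100 10 .nil)) 66304 6 (.node (.node .nil 66306 10 .nil) 66308 12 (.node .nil 66320 6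
    .nil)))) 66321 6 (.node (.node (.node (.node (.node .nil 66322 12 .nil) 66324 12 .nil) 69632 6
    (.node .nil 69635 9 .nil)) 69636 10 (.node (.node .nil 69648 4 .nil) 69649 6 (.node .nil 69651 9
    .nil))) 69652 8 (.node (.node (.node (.node .nil 69664 6 .nil) 69665 6 .nil) 69667 9 (.node .nil
    69668 10 .nil)) 69680 6 (.node (.node .nil 69681 6 .nil) 69683 9 (.node .nil 69684 10 .nil)))))
    69696 6 (.node (.node (.node (.node (.node (.node .nil 69697 6 .nil) 69699 9 .nil) 69700 10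
    (.node .nil 69888 6 .nil)) 69890 10 (.node (.node .nil 69891 12 .nil) 69892 12 (.node .nil 69904
    6 .nil))) 69905 6 (.node (.node (.node (.node .nil 69906 12 .nil) 69907 10 .nil) 69908 12 (.node
    .nil 69920 6 .nil)) 69921 6 (.node (.node .nil 69922 12 .nil) 69923 12 (.node .nil 69924 12
    .nil)))) 70144 12 (.node (.node (.node (.node (.node .nil 70146 12 .nil) 70147 18 .nil) 70148 20
    (.node .nil 73728 12 .nil)) 73731 18 (.node (.node .nil 73732 20 .nil) 73744 8 (.node .nil 73745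
    12 .nil))) 73747 18 (.node (.node (.node (.node .nil 73748 16 .nil) 131072 10 .nil) 131076 15
    (.node .nil 131088 6 .nil)) 131089 10 (.node (.node .nil 131092 13 .nil) 131104 10 (.node .nil
    131105 10 .nil)))))) 131108 15 (.node (.node (.node (.node (.node (.node (.node .nil 131120 10
    .nil) 131121 10 .nil) 131124 15 (.node .nil 131328 10 .nil)) 131330 16 (.node (.node .nil 131332
    18 .nil) 131344 10 (.node .nil 131345 10 .nil))) 131346 20 (.node (.node (.node (.node .nil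
    131348 18 .nil) 135168 20 .nil) 135171 30 (.node .nil 135172 30 .nil)) 1048576 5 (.node (.node
    .nil 1048581 8 .nil) 1048592 3 (.node .nil 1048593 5 .nil)))) 1048597 7 (.node (.node (.node
    (.node (.node .nil 1048608 5 .nil) 1048609 5 .nil) 1048613 8 (.node .nil 1048624 5 .nil))
    1048625 5 (.node (.node .nil 1048629 8 .nil) 1048640 5 (.node .nil 1048641 5 .nil))) 1048645 8
    (.node (.node (.node (.node .nil 1048656 5 .nil) 1048657 5 .nil) 1048661 8 (.node .nil 1048672 5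
    .nil)) 1048673 5 (.node (.node .nil 1048677 8 .nil) 1048832 5 (.node .nil 1048834 8 .nil)))))
    1048837 9 (.node (.node (.node (.node (.node (.node .nil 1048848 5 .nil) 1048849 5 .nil) 1048850
    10 (.node .nil 1048853 10 .nil)) 1048864 5 (.node (.node .nil 1048865 5 .nil) 1048866 10 (.node
    .nil 1048869 10 .nil))) 1048880 5 (.node (.node (.node (.node .nil 1048881 5 .nil) 1048882 10
    .nil) 1048885 10 (.node .nil 1048896 5 .nil)) 1048897 5 (.node (.node .nil 1048898 10 .nil)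
    1048901 10 (.node .nil 1049088 10 .nil)))) 1049090 10 (.node (.node (.node (.node (.node .nil
    1049093 16 .nil) 1049104 6 .nil) 1049105 10 (.node .nil 1049106 10 .nil)) 1049109 14 (.node
    (.node .nil 1049120 10 .nil) 1049121 10 (.node .nil 1049122 10 .nil))) 1049125 16 (.node (.node
    (.node (.node .nil 1049344 10 .nil) 1049346 16 .nil) 1049349 18 (.node .nil 1052672 10 .nil))
    1052675 15 (.node (.node .nil 1052677 16 .nil) 1052688 6 (.node .nil 1052689 10 .nil)))))))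
    1052691 15 (.node (.node (.node (.node (.node (.node (.node (.node .nil 1052693 14 .nil) 1052704
    10 .nil) 1052705 10 (.node .nil 1052707 15 .nil)) 1052709 16 (.node (.node (.node .nil 1052720
    10 .nil) 1052721 10 .nil) 1052723 15 (.node .nil 1052725 16 .nil))) 1052928 10 (.node (.node
    (.node (.node .nil 1052930 16 .nil) 1052931 20 .nil) 1052933 18 (.node .nil 1052944 10 .nil))
    1052945 10 (.node (.node .nil 1052946 20 .nil) 1052947 16 (.node .nil 1052949 20 .nil))))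
    1056768 20 (.node (.node (.node (.node (.node .nil 1056771 30 .nil) 1056773 32 .nil) 1114112 15
    (.node .nil 1114116 25 .nil)) 1114117 25 (.node (.node .nil 1114128 10 .nil) 1114129 15 (.node
    .nil 1114132 21 .nil))) 1114133 21 (.node (.node (.node (.node .nil 1114144 15 .nil) 1114145 15
    .nil) 1114148 25 (.node .nil 1114149 25 .nil)) 1114368 15 (.node (.node .nil 1114370 25 .nil)
    1114372 30 (.node .nil 1114373 28 .nil))))) 2097152 25 (.node (.node (.node (.node (.node (.node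
    .nil 2097157 40 .nil) 2097168 15 .nil) 2097169 25 (.node .nil 2097173 35 .nil)) 16777216 8
    (.node (.node .nil 16777222 13 .nil) 16777232 5 (.node .nil 16777233 8 .nil))) 16777238 11
    (.node (.node (.node (.node .nil 16777248 8 .nil) 16777249 8 .nil) 16777254 13 (.node .nil
    16777264 8 .nil)) 16777265 8 (.node (.node .nil 16777270 13 .nil) 16777280 8 (.node .nil
    16777281 8 .nil)))) 16777286 13 (.node (.node (.node (.node (.node .nil 16777296 8 .nil)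
    16777297 8 .nil) 16777302 13 (.node .nil 16777472 8 .nil)) 16777474 13 (.node (.node .nil
    16777478 14 .nil) 16777488 8 (.node .nil 16777489 8 .nil))) 16777490 16 (.node (.node (.node
    (.node .nil 16777494 15 .nil) 16777504 8 .nil) 16777505 8 (.node .nil 16777506 16 .nil))
    16777510 15 (.node (.node .nil 16777520 8 .nil) 16777521 8 (.node .nil 16777522 16 .nil))))))
    16777526 15 (.node (.node (.node (.node (.node (.node (.node .nil 16777728 16 .nil) 16777730 16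
    .nil) 16777734 26 (.node .nil 16777744 10 .nil)) 16777745 16 (.node (.node .nil 16777746 16
    .nil) 16777750 22 (.node .nil 16781312 16 .nil))) 16781315 24 (.node (.node (.node (.node .nil
    16781318 26 .nil) 16781328 10 .nil) 16781329 16 (.node .nil 16781331 24 .nil)) 16781334 22
    (.node (.node .nil 16781344 16 .nil) 16781345 16 (.node .nil 16781347 24 .nil)))) 16781350 26
    (.node (.node (.node (.node (.node .nil 16781568 16 .nil) 16781570 26 .nil) 16781571 32 (.node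
    .nil 16781574 28 .nil)) 16842752 24 (.node (.node .nil 16842756 40 .nil) 16842758 40 (.node .nil
    16842768 16 .nil))) 16842769 24 (.node (.node (.node (.node .nil 16842772 34 .nil) 16842774 35
    .nil) 17825792 40 (.node .nil 17825797 64 .nil)) 17825798 65 (.node (.node .nil 4294967296 19
    .nil) 4294967304 25 (.node .nil 4294967312 8 .nil))))) 4294967313 19 (.node (.node (.node (.node
    (.node (.node .nil 4294967320 29 .nil) 4294967328 19 .nil) 4294967329 19 (.node .nil 4294967336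
    29 .nil)) 4294967344 19 (.node (.node .nil 4294967345 19 .nil) 4294967352 29 (.node .nil
    4294967552 19 .nil))) 4294967554 27 (.node (.node (.node (.node .nil 4294967560 36 .nil)
    4294967568 19 .nil) 4294967569 19 (.node .nil 4294967570 38 .nil)) 4294967576 31 (.node (.node
    .nil 4294971392 38 .nil) 4294971395 57 (.node .nil 4294971400 50 .nil)))) 68719476736 31 (.node
    (.node (.node (.node (.node .nil 68719476745 44 .nil) 68719476752 19 .nil) 68719476753 31 (.node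
    .nil 68719476761 39 .nil)) 68719476768 31 (.node (.node .nil 68719476769 31 .nil) 68719476777 48
    (.node .nil 68719476992 31 .nil))) 68719476994 50 (.node (.node (.node (.node .nil 68719477001
    58 .nil) 1099511627776 50 .nil) 1099511627786 75 (.node .nil 1099511627792 31 .nil))
    1099511627793 50 (.node (.node .nil 1099511627802 67 .nil) 17592186044416 80 (.node .nil
    17592186044427 125 .nil)))))))))

def PL7 (n : ℕ) : List (List ℕ) :=
  List.getD [[[]],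
   [[1]],
   [[1, 1], [2]],
   [[1, 1, 1], [2, 1], [3]],
   [[1, 1, 1, 1], [2, 1, 1], [2, 2], [3, 1], [4]],
   [[1, 1, 1, 1, 1], [2, 1, 1, 1], [2, 2, 1], [3, 1, 1], [3, 2], [4, 1], [5]],
   [[1, 1, 1, 1, 1, 1], [2, 1, 1, 1, 1], [2, 2, 1, 1], [2, 2, 2], [3, 1, 1, 1], [3, 2, 1], [3, 3],
    [4, 1, 1], [4, 2], [5, 1], [6]],
   [[1, 1, 1, 1, 1, 1, 1], [2, 1, 1, 1, 1, 1], [2, 2, 1, 1, 1], [2, 2, 2, 1], [3, 1, 1, 1, 1], [3,
    2, 1, 1], [3, 2, 2], [3, 3, 1], [4, 1, 1, 1], [4, 2, 1], [4, 3], [5, 1, 1], [5, 2], [6, 1]],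
   [[1, 1, 1, 1, 1, 1, 1, 1], [2, 1, 1, 1, 1, 1, 1], [2, 2, 1, 1, 1, 1], [2, 2, 2, 1, 1], [2, 2, 2,
    2], [3, 1, 1, 1, 1, 1], [3, 2, 1, 1, 1], [3, 2, 2, 1], [3, 3, 1, 1], [3, 3, 2], [4, 1, 1, 1, 1],
    [4, 2, 1, 1], [4, 2, 2], [4, 3, 1], [4, 4], [5, 1, 1, 1], [5, 2, 1], [5, 3], [6, 1, 1], [6, 2],
    [8]],
   [[1, 1, 1, 1, 1, 1, 1, 1, 1], [2, 1, 1, 1, 1, 1, 1, 1], [2, 2, 1, 1, 1, 1, 1], [2, 2, 2, 1, 1,
    1], [2, 2, 2, 2, 1], [3, 1, 1, 1, 1, 1, 1], [3, 2, 1, 1, 1, 1], [3, 2, 2, 1, 1], [3, 2, 2, 2],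
    [3, 3, 1, 1, 1], [3, 3, 2, 1], [3, 3, 3], [4, 1, 1, 1, 1, 1], [4, 2, 1, 1, 1], [4, 2, 2, 1], [4,
    3, 1, 1], [4, 3, 2], [4, 4, 1], [5, 1, 1, 1, 1], [5, 2, 1, 1], [5, 2, 2], [5, 3, 1], [5, 4], [6,
    1, 1, 1], [6, 2, 1], [6, 3], [8, 1], [9]],
   [[1, 1, 1, 1, 1, 1, 1, 1, 1, 1], [2, 1, 1, 1, 1, 1, 1, 1, 1], [2, 2, 1, 1, 1, 1, 1, 1], [2, 2, 2,
    1, 1, 1, 1], [2, 2, 2, 2, 1, 1], [2, 2, 2, 2, 2], [3, 1, 1, 1, 1, 1, 1, 1], [3, 2, 1, 1, 1, 1,
    1], [3, 2, 2, 1, 1, 1], [3, 2, 2, 2, 1], [3, 3, 1, 1, 1, 1], [3, 3, 2, 1, 1], [3, 3, 2, 2], [3,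
    3, 3, 1], [4, 1, 1, 1, 1, 1, 1], [4, 2, 1, 1, 1, 1], [4, 2, 2, 1, 1], [4, 2, 2, 2], [4, 3, 1, 1,
    1], [4, 3, 2, 1], [4, 3, 3], [4, 4, 1, 1], [4, 4, 2], [5, 1, 1, 1, 1, 1], [5, 2, 1, 1, 1], [5,
    2, 2, 1], [5, 3, 1, 1], [5, 3, 2], [5, 4, 1], [5, 5], [6, 1, 1, 1, 1], [6, 2, 1, 1], [6, 2, 2],
    [6, 3, 1], [6, 4], [8, 1, 1], [8, 2], [9, 1], [10]],
   [[1, 1, 1, 1, 1, 1, 1, 1, 1, 1, 1], [2, 1, 1, 1, 1, 1, 1, 1, 1, 1], [2, 2, 1, 1, 1, 1, 1, 1, 1],
    [2, 2, 2, 1, 1, 1, 1, 1], [2, 2, 2, 2, 1, 1, 1], [2, 2, 2, 2, 2, 1], [3, 1, 1, 1, 1, 1, 1, 1,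
    1], [3, 2, 1, 1, 1, 1, 1, 1], [3, 2, 2, 1, 1, 1, 1], [3, 2, 2, 2, 1, 1], [3, 2, 2, 2, 2], [3, 3,
    1, 1, 1, 1, 1], [3, 3, 2, 1, 1, 1], [3, 3, 2, 2, 1], [3, 3, 3, 1, 1], [3, 3, 3, 2], [4, 1, 1, 1,
    1, 1, 1, 1], [4, 2, 1, 1, 1, 1, 1], [4, 2, 2, 1, 1, 1], [4, 2, 2, 2, 1], [4, 3, 1, 1, 1, 1], [4,
    3, 2, 1, 1], [4, 3, 2, 2], [4, 3, 3, 1], [4, 4, 1, 1, 1], [4, 4, 2, 1], [4, 4, 3], [5, 1, 1, 1,
    1, 1, 1], [5, 2, 1, 1, 1, 1], [5, 2, 2, 1, 1], [5, 2, 2, 2], [5, 3, 1, 1, 1], [5, 3, 2, 1], [5,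
    3, 3], [5, 4, 1, 1], [5, 4, 2], [5, 5, 1], [6, 1, 1, 1, 1, 1], [6, 2, 1, 1, 1], [6, 2, 2, 1],
    [6, 3, 1, 1], [6, 3, 2], [6, 4, 1], [6, 5], [8, 1, 1, 1], [8, 2, 1], [8, 3], [9, 1, 1], [9, 2],
    [10, 1], [11]],
   [[1, 1, 1, 1, 1, 1, 1, 1, 1, 1, 1, 1], [2, 1, 1, 1, 1, 1, 1, 1, 1, 1, 1], [2, 2, 1, 1, 1, 1, 1,
    1, 1, 1], [2, 2, 2, 1, 1, 1, 1, 1, 1], [2, 2, 2, 2, 1, 1, 1, 1], [2, 2, 2, 2, 2, 1, 1], [2, 2,
    2, 2, 2, 2], [3, 1, 1, 1, 1, 1, 1, 1, 1, 1], [3, 2, 1, 1, 1, 1, 1, 1, 1], [3, 2, 2, 1, 1, 1, 1,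
    1], [3, 2, 2, 2, 1, 1, 1], [3, 2, 2, 2, 2, 1], [3, 3, 1, 1, 1, 1, 1, 1], [3, 3, 2, 1, 1, 1, 1],
    [3, 3, 2, 2, 1, 1], [3, 3, 2, 2, 2], [3, 3, 3, 1, 1, 1], [3, 3, 3, 2, 1], [3, 3, 3, 3], [4, 1,
    1, 1, 1, 1, 1, 1, 1], [4, 2, 1, 1, 1, 1, 1, 1], [4, 2, 2, 1, 1, 1, 1], [4, 2, 2, 2, 1, 1], [4,
    2, 2, 2, 2], [4, 3, 1, 1, 1, 1, 1], [4, 3, 2, 1, 1, 1], [4, 3, 2, 2, 1], [4, 3, 3, 1, 1], [4, 3,
    3, 2], [4, 4, 1, 1, 1, 1], [4, 4, 2, 1, 1], [4, 4, 2, 2], [4, 4, 3, 1], [4, 4, 4], [5, 1, 1, 1,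
    1, 1, 1, 1], [5, 2, 1, 1, 1, 1, 1], [5, 2, 2, 1, 1, 1], [5, 2, 2, 2, 1], [5, 3, 1, 1, 1, 1], [5,
    3, 2, 1, 1], [5, 3, 2, 2], [5, 3, 3, 1], [5, 4, 1, 1, 1], [5, 4, 2, 1], [5, 4, 3], [5, 5, 1, 1],
    [5, 5, 2], [6, 1, 1, 1, 1, 1, 1], [6, 2, 1, 1, 1, 1], [6, 2, 2, 1, 1], [6, 2, 2, 2], [6, 3, 1,
    1, 1], [6, 3, 2, 1], [6, 3, 3], [6, 4, 1, 1], [6, 4, 2], [6, 5, 1], [6, 6], [8, 1, 1, 1, 1], [8,
    2, 1, 1], [8, 2, 2], [8, 3, 1], [8, 4], [9, 1, 1, 1], [9, 2, 1], [9, 3], [10, 1, 1], [10, 2],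
    [11, 1], [12]]] n []

def w7 (n : ℕ) : ℕ := List.getD [1, 1, 2, 3, 5, 7, 15, 1, 34, 59, 103, 178, 303] n 0


theorem cert3 : Cert 3 t3 PL3 w3 where
  eq := by decide +kernel
  zero := by decide +kernel
  mono := by decide +kernel
  one := by decide +kernel
  two := by decide +kernel
  top := by decide +kernel
  sup := by decide +kernel
  sq := by decide +kernel
  w4 := by decide +kernel
  w5 := by decide +kernel

theorem cert5 : Cert 5 t5 PL5 w5 where
  eq := by decide +kernel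
  zero := by decide +kernel
  mono := by decide +kernel
  one := by decide +kernel
  two := by decide +kernel
  top := by decide +kernel
  sup := by decide +kernel
  sq := by decide +kernel
  w4 := by decide +kernel
  w5 := by decide +kernel

theorem cert7 : Cert 7 t7 PL7 w7 where
  eq := by decide +kernel
  zero := by decide +kernel
  mono := by decide +kernel
  one := by decide +kernel
  two := by decide +kernel
  top := by decide +kernel
  sup := by decide +kernel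
  sq := by decide +kernel
  w4 := by decide +kernel
  w5 := by decide +kernel

end CL.KT
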